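import Cfsg.Agent.J4Cert.Mat
import Cfsg.Agent.J4Cert.SylDef
import Cfsg.Agent.J4Cert.CentDef
import Cfsg.Agent.J4Maximal.Data43.Tables
import Cfsg.Agent.J4Maximal.Data43.Plan

/-!
The finite checks for the prime 43: an element of order 7 of the normaliser of a Sylow 43-subgroup.
-/

set_option autoImplicit false
set_option maxRecDepth 20000
set_option Elab.async false

namespace Cfsg.Lib.J4Maximal.P43

open Cfsg.Lib.J4Cert

/-- The matrices by index. -/
def nd (k : ℕ) : List ℕ := ndTab.get k

/-- The matrix of a pool element. -/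
def pm (k : ℕ) : List ℕ := nd (pnode.getD k 0)

/-- The table of a pool element. -/
def ptab (k : ℕ) : List ℕ := ptabs.getD k []

/-- A word applied to a vector. -/
def act : List ℕ → ℕ → ℕ
  | [], z => z
  | k :: w, z => act w (vt (ptab k) z)

/-- A word applied repeatedly. -/
def rep (w : List ℕ) : ℕ → ℕ → ℕ
  | 0, z => z
  | n + 1, z => rep w n (act w z)

/-- The keys increase from a lower bound and stay below an upper bound. -/
def incr {α : Type} (key : α → ℕ) (hi : ℕ) : ℕ → List α → Bool
  | lo, [] => Nat.ble lo hi
  | lo, a :: l => (fun k => Nat.ble lo k && incr key hi (k + 1) l) (key a)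

/-- The word of an entry. -/
def entW (e : ℕ × ℕ) : List ℕ := repW.getD e.1 [] ++ List.replicate e.2 1

/-- The key of an entry. -/
def key (e : ℕ × ℕ) : ℕ := act (entW e) f0

/-- The word of a certificate. -/
def crtW (r : ℕ) (w : List ℕ) : List ℕ := w.flatMap fun k => bif Nat.beq k 2 then repW.getD r [] else [k]

/-- A certificate is correct. -/
def crtOK (q r : ℕ) (c : List ℕ × ℕ) : Bool :=
  c.1.all (fun k => Nat.blt k 2 || Nat.beq k 2) && decide (c.2 < 2 ^ 112) &&
    (rep (crtW r c.1) q c.2 == c.2) && (act (crtW r c.1) c.2 != c.2)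

/-- The tables belong to the nodes. -/
def poolOK : Bool :=
  (List.range 6).all fun k => decide (pnode.getD k 0 < 645) && leq (tabs4 (pm k)) (ptab k)

/-- The relations of the pool elements. -/
def baseOK : Bool :=
  leq (mPow (pm 0) 43) J4Rep.idMat && !leq (pm 0) J4Rep.idMat &&
    leq (mPow (pm 1) 14) J4Rep.idMat && !leq (mPow (pm 1) 2) J4Rep.idMat &&
    leq (mB (pm 0) (pm 1)) (mB (pm 1) (mPow (pm 0) xExp)) &&
    sevExp.all fun a => leq (mB (pm a.1) (mPow (pm 1) (2 * a.2))) (mB (mPow (pm 1) 2) (pm a.1))

/-- The shapes of the lists. -/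
def shapeOK : Bool :=
  decide (f0 < 2 ^ 112 ∧ w0 < 2 ^ 112) && powOrd.length == 14 && powOrd.all (fun i => Nat.blt i 14) &&
    act [1] f0 == f0 &&
    repW.all (fun w => w.all fun k => Nat.ble 1 k && Nat.blt k 6) && repW.getD 0 [] == [] &&
    ents.length == 180 && ents.all (fun e => decide (e.1 < 96)) &&
    ((ents.filter fun e => e.1 == 0) == [(0, 0)]) &&
    (List.range 96).all fun r => r == 0 || crt.any fun c => c.1 == r

theorem nd_low : ∀ l < 4, nd l = letM l := by decide +kernel
theorem prog0_ok : progOK nd 4 ndProg0 = true := by decide +kernel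
theorem prog1_ok : progOK nd 84 ndProg1 = true := by decide +kernel
theorem prog2_ok : progOK nd 164 ndProg2 = true := by decide +kernel
theorem prog3_ok : progOK nd 244 ndProg3 = true := by decide +kernel
theorem prog4_ok : progOK nd 324 ndProg4 = true := by decide +kernel
theorem prog5_ok : progOK nd 404 ndProg5 = true := by decide +kernel
theorem prog6_ok : progOK nd 484 ndProg6 = true := by decide +kernel
theorem prog7_ok : progOK nd 564 ndProg7 = true := by decide +kernel
theorem prog8_ok : progOK nd 644 ndProg8 = true := by decide +kernel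
theorem pool_ok : poolOK = true := by decide +kernel
theorem base_ok : baseOK = true := by decide +kernel
theorem shape_ok : shapeOK = true := by decide +kernel
theorem pow_keys : incr (fun i => act (List.replicate i 1) w0) (2 ^ 112) 0 powOrd = true := by decide +kernel
theorem key_ok : incr key (2 ^ 112) 0 ents = true := by decide +kernel
theorem crt_ok : (crt.all fun c => crtOK 29 c.1 c.2.1 && crtOK 37 c.1 c.2.2) = true := by decide +kernel

end Cfsg.Lib.J4Maximal.P43
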