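import Cfsg.Agent.J4Maximal.P43.El

/-!
The normaliser of the element of order 7 in a proper subgroup containing the normaliser of a Sylow 43-subgroup.
-/

set_option autoImplicit false
set_option maxRecDepth 8000
set_option synthInstance.maxSize 4000
set_option linter.style.haveILetI false

namespace Cfsg.Lib.J4Maximal.P43

open Cfsg Cfsg.Lib.J4Cert Subgroup

attribute [local irreducible] mB mPow nd pnode ptabs ptab tabs4 vt leq pm key f0 w0 powOrd repW ents crt sevExp

theorem incr_bounds {α : Type} (key : α → ℕ) : ∀ (l : List α) (lo hi : ℕ), incr key hi lo l = true →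
    lo ≤ hi ∧ (∀ a ∈ l, lo ≤ key a ∧ key a < hi) ∧ l.Pairwise fun a b => key a < key b
  | [], lo, hi, h => ⟨Nat.le_of_ble_eq_true h, by simp, List.Pairwise.nil⟩
  | a :: l, lo, hi, h => by
    simp only [incr, Bool.and_eq_true, Nat.ble_eq] at h
    obtain ⟨h1, h2, h3⟩ := incr_bounds key l _ hi h.2
    refine ⟨by omega, fun b hb => ?_, List.pairwise_cons.mpr ⟨fun b hb => by have := (h2 b hb).1; omega, h3⟩⟩
    rcases List.mem_cons.mp hb with rfl | hb
    · exact ⟨h.1, by omega⟩
    · have := h2 b hb; exact ⟨by omega, this.2⟩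

theorem pairwise_inj {α : Type} {key : α → ℕ} {l : List α} (h : l.Pairwise fun a b => key a < key b) {a b : α}
    (ha : a ∈ l) (hb : b ∈ l) (e : key a = key b) : a = b := by
  obtain ⟨i, rfl⟩ := List.mem_iff_get.mp ha
  obtain ⟨j, rfl⟩ := List.mem_iff_get.mp hb
  rw [List.pairwise_iff_get] at h
  rcases lt_trichotomy i j with hl | hl | hl
  · exact absurd e (h i j hl).ne
  · rw [hl]
  · exact absurd e.symm (h j i hl).ne

theorem shapes : f0 < 2 ^ 112 ∧ w0 < 2 ^ 112 ∧ powOrd.length = 14 ∧ (∀ i ∈ powOrd, i < 14) ∧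
    act [1] f0 = f0 ∧ (∀ i, ∀ k ∈ repW.getD i [], 1 ≤ k ∧ k < 6) ∧ repW.getD 0 [] = [] ∧
    ents.length = 180 ∧ (∀ e ∈ ents, e.1 < 96) ∧ (ents.filter fun e => e.1 == 0) = [(0, 0)] ∧
    ∀ r < 96, r = 0 ∨ ∃ c ∈ crt, c.1 = r := by
  have h := shape_ok
  simp only [shapeOK, Bool.and_eq_true, decide_eq_true_eq, List.all_eq_true, beq_iff_eq, Bool.or_eq_true,
    List.mem_range, List.any_eq_true, Nat.ble_eq, Nat.blt_eq] at h
  obtain ⟨⟨⟨⟨⟨⟨⟨⟨⟨⟨hf, hw⟩, hl⟩, hp⟩, hfx⟩, hps⟩, hp0⟩, hlen⟩, hb⟩, hz⟩, hc⟩ := h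
  refine ⟨hf, hw, hl, hp, hfx, fun i k hk => ?_, hp0, hlen, hb, hz, fun r hr => hc r hr⟩
  by_cases hi : i < repW.length
  · rw [List.getD_eq_getElem _ _ hi] at hk
    exact hps _ (List.getElem_mem hi) k hk
  · rw [List.getD_eq_default _ _ (Nat.le_of_not_lt hi)] at hk
    simp at hk

theorem rep_lt (i : ℕ) : ∀ k ∈ List.replicate i 1, k < 6 := fun k hk => by
  rw [List.eq_of_mem_replicate hk]; norm_num

theorem entW_lt (e : ℕ × ℕ) : ∀ k ∈ entW e, 1 ≤ k ∧ k < 6 := by
  obtain ⟨-, -, -, -, -, hp, -⟩ := shapes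
  intro k hk
  simp only [entW, List.mem_append] at hk
  rcases hk with hk | hk
  · exact hp _ k hk
  · rw [List.eq_of_mem_replicate hk]; norm_num

/-- The fixed test vector. -/
def F : J4Rep.Vec := ⟨f0, shapes.1⟩

theorem img_fix (i : ℕ) : img (gV ^ i) F = F := by
  induction i with
  | zero => rw [pow_zero (gV : Spor.J4), img_one]
  | succ i ih =>
    rw [pow_succ (gV : Spor.J4), img_mul, ih]
    have h1 : ev [1] = gV := by rw [ev_cons, ev_nil, mul_one]; rfl
    exact Subtype.ext (by rw [← h1, ← act_eq [1] (by simp) F]; exact shapes.2.2.2.2.1)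

theorem prod_inj {i i' : ℕ} (hi : i ∈ powOrd) (hi' : i' ∈ powOrd) {e e' : ℕ × ℕ} (he : e ∈ ents)
    (he' : e' ∈ ents) (h : gV ^ i * ev (entW e) = gV ^ i' * ev (entW e')) : i = i' ∧ e = e' := by
  have hkey : ∀ x, key x = (img (ev (entW x)) F).1 := fun x => by
    unfold key
    exact act_eq (entW x) (fun k hk => (entW_lt x k hk).2) F
  have hk : key e = key e' := by
    have := congrArg (fun g => img g F) h
    simp only [img_mul, img_fix] at this
    rw [hkey, hkey, this]
  obtain rfl := pairwise_inj (incr_bounds _ _ _ _ key_ok).2.2 he he' hk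
  refine ⟨pairwise_inj (incr_bounds _ _ _ _ pow_keys).2.2 hi hi' ?_, rfl⟩
  let W : J4Rep.Vec := ⟨w0, shapes.2.1⟩
  show act (List.replicate i 1) W.1 = act (List.replicate i' 1) W.1
  rw [act_eq _ (rep_lt i) W, act_eq _ (rep_lt i') W, ev_rep, ev_rep, mul_right_cancel h]

theorem pe_norm : ∀ k, 1 ≤ k → k < 6 → pe k ∈ normalizer (zpowers gS : Set Spor.J4) := by
  have key' : ∀ k < 6, 1 ≤ k → ∃ a ∈ sevExp, a.1 = k := by decide +kernel
  intro k h1 hk
  obtain ⟨a, ha, rfl⟩ := key' k hk h1
  exact base_rels.2.2.2.2 a ha hk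

theorem inf_seven (hN : Nat.card (normalizer (zpowers gS : Set Spor.J4)) = 2520) {M : Subgroup Spor.J4}
    (hle : normalizer (zpowers gX : Set Spor.J4) ≤ M)
    (hbig : ¬ (29 ∣ Nat.card M ∧ 37 ∣ Nat.card M)) :
    Nat.card ↥(M ⊓ normalizer (zpowers gS : Set Spor.J4)) = 14 ∧
      M ⊓ normalizer (zpowers gS : Set Spor.J4) ≤ zpowers gV := by
  classical
  haveI := finite_J4
  obtain ⟨-, -, hpl, hpb, -, hp, hp0, hlen, hb, hz, hc⟩ := shapes
  set NQ := normalizer (zpowers gS : Set Spor.J4)
  have hXM : pe 0 ∈ M := hle (le_normalizer (mem_zpowers gX))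
  have hVM : gV ∈ M := hle base_rels.2.2.2.1
  have hVN : gV ∈ NQ := pe_norm 1 le_rfl (by norm_num)
  have hentN : ∀ e, ev (entW e) ∈ NQ := fun e => ev_mem fun k hk => pe_norm k (entW_lt e k hk).1 (entW_lt e k hk).2
  have hnd : ents.Nodup := (incr_bounds _ _ _ _ key_ok).2.2.imp fun hlt he => hlt.ne (congrArg key he)
  have hndp : powOrd.Nodup := (incr_bounds _ _ _ _ pow_keys).2.2.imp fun hlt he =>
    hlt.ne (congrArg (fun i => act (List.replicate i 1) w0) he)
  let Φ : Fin powOrd.length × Fin ents.length → ↥NQ := fun p =>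
    ⟨gV ^ powOrd.get p.1 * ev (entW (ents.get p.2)), mul_mem (pow_mem hVN _) (hentN _)⟩
  have hinj : Function.Injective Φ := fun p p' h => by
    obtain ⟨h1, h2⟩ := prod_inj (List.get_mem _ _) (List.get_mem _ _) (List.get_mem _ _) (List.get_mem _ _)
      (congrArg Subtype.val h)
    exact Prod.ext (hndp.get_inj_iff.mp h1) (hnd.get_inj_iff.mp h2)
  have hsurj := (Nat.bijective_iff_injective_and_card Φ).mpr ⟨hinj, by
    rw [hN, Nat.card_prod, Nat.card_fin, Nat.card_fin, hpl, hlen]⟩
  let Ψ : Fin powOrd.length → ↥(M ⊓ NQ) := fun i =>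
    ⟨gV ^ powOrd.get i, pow_mem hVM _, pow_mem hVN _⟩
  have h00 : ((0, 0) : ℕ × ℕ) ∈ ents := by
    have : ((0, 0) : ℕ × ℕ) ∈ ents.filter fun e => e.1 == 0 := by rw [hz]; exact List.mem_singleton_self _
    exact (List.mem_filter.mp this).1
  have e00 : ev (entW (0, 0)) = 1 := by rw [entW, hp0]; rfl
  have hb' : Function.Bijective Ψ := by
    refine ⟨fun i i' h => ?_, ?_⟩
    · obtain ⟨h1, -⟩ := prod_inj (List.get_mem powOrd i) (List.get_mem powOrd i') h00 h00
        (congrArg (fun g => g * ev (entW (0, 0))) (congrArg Subtype.val h))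
      exact hndp.get_inj_iff.mp h1
    · rintro ⟨y, hyM, hyN⟩
      obtain ⟨⟨i, j⟩, hp'⟩ := hsurj.2 ⟨y, hyN⟩
      have hy : gV ^ powOrd.get i * ev (entW (ents.get j)) = y := congrArg Subtype.val hp'
      set e := ents.get j
      have he : e ∈ ents := List.get_mem _ _
      have h0 : e.1 = 0 := by
        refine ((hc _ (hb e he)).resolve_right fun hex => hbig ?_)
        obtain ⟨c, hcm, hcr⟩ := hex
        have hrep : ev (repW.getD e.1 []) ∈ M := by
          have hy' : gV ^ powOrd.get i * (ev (repW.getD e.1 []) * ev (List.replicate e.2 1)) ∈ M := by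
            rw [← ev_append]
            exact hy.symm ▸ hyM
          rw [ev_rep] at hy'
          exact (mul_mem_cancel_right (pow_mem hVM _)).mp ((mul_mem_cancel_left (pow_mem hVM _)).mp hy')
        have h := crt_ok
        simp only [List.all_eq_true, Bool.and_eq_true] at h
        obtain ⟨ha, hb⟩ := h c hcm
        have key' : ∀ {q : ℕ} {d : List ℕ × ℕ}, q.Prime → crtOK q c.1 d = true → q ∣ Nat.card M := by
          intro q d hq hd
          simp only [crtOK, Bool.and_eq_true, List.all_eq_true, Bool.or_eq_true, decide_eq_true_eq, beq_iff_eq,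
            bne_iff_ne, Nat.blt_eq, Nat.beq_eq] at hd
          obtain ⟨⟨⟨hd1, hd2⟩, hd3⟩, hd4⟩ := hd
          have hlM : ∀ k < 2, pe k ∈ M ∧ k < 6 := fun k hk => by
            interval_cases k
            · exact ⟨hXM, by norm_num⟩
            · exact ⟨hVM, by norm_num⟩
          have hmem : (∀ k ∈ crtW c.1 d.1, k < 6) ∧ ev (crtW c.1 d.1) ∈ M := by
            clear hd3 hd4
            rw [crtW]
            revert hd1
            generalize d.1 = w
            intro hw
            induction w with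
            | nil => exact ⟨fun k hk => by simp at hk, ev_nil ▸ one_mem M⟩
            | cons a w ih =>
              obtain ⟨ih1, ih2⟩ := ih fun k hk => hw k (List.mem_cons_of_mem _ hk)
              have ha' : (∀ k ∈ bif Nat.beq a 2 then repW.getD c.1 [] else [a], k < 6) ∧
                  ev (bif Nat.beq a 2 then repW.getD c.1 [] else [a]) ∈ M := by
                by_cases h8 : a = 2
                · subst h8
                  exact ⟨fun k hk => (hp _ k hk).2, hcr ▸ hrep⟩
                · have hb8 : Nat.beq a 2 = false := by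
                    rw [← Bool.not_eq_true, Nat.beq_eq]; exact h8
                  have hlt : a < 2 := (hw a List.mem_cons_self).resolve_right h8
                  rw [hb8, cond_false]
                  exact ⟨fun k hk => by rw [List.mem_singleton.mp hk]; exact (hlM a hlt).2,
                    by rw [ev_cons, ev_nil, mul_one]; exact (hlM a hlt).1⟩
              rw [List.flatMap_cons]
              refine ⟨fun k hk => (List.mem_append.mp hk).elim (ha'.1 k) (ih1 k), ?_⟩
              rw [ev_append]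
              exact mul_mem ha'.2 ih2
          exact (dvd_order hmem.1 hq hd2 hd3 hd4).trans (M.orderOf_dvd_natCard hmem.2)
        exact ⟨key' (by norm_num) ha, key' (by norm_num) hb⟩
      have he0 : e = (0, 0) := by
        have : e ∈ ents.filter fun e => e.1 == 0 := by simp [he, h0]
        rw [hz] at this
        exact List.mem_singleton.mp this
      refine ⟨i, Subtype.ext ?_⟩
      show gV ^ powOrd.get i = y
      rw [← hy, he0, e00, mul_one]
  refine ⟨by rw [← Nat.card_eq_of_bijective Ψ hb', Nat.card_fin, hpl], fun y hy => ?_⟩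
  obtain ⟨i, hi⟩ := hb'.2 ⟨y, hy⟩
  rw [show y = gV ^ powOrd.get i from (congrArg Subtype.val hi).symm]
  exact pow_mem (mem_zpowers _) _

end Cfsg.Lib.J4Maximal.P43
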